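/- Semisimple endomorphisms are determined up to conjugation by their characteristic polynomial.
Main results: `exists_aeval_eq_zero_of_dvd_charpoly`, `exists_cyclic_split`,
`exists_equiv_of_charpoly_eq`, `exists_commute_det`. -/
import Cfsg.Agent.EqLemmas

set_option autoImplicit false

namespace Cfsg.Agent.Semisimple

open Polynomial

variable {F : Type*} [Field F]

/-- An irreducible factor of the characteristic polynomial annihilates a non-zero vector. -/
theorem exists_aeval_eq_zero_of_dvd_charpoly {V : Type*} [AddCommGroup V] [Module F V]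
    [FiniteDimensional F V] (f : Module.End F V) {p : F[X]} (hp : Irreducible p)
    (hdvd : p ∣ f.charpoly) : ∃ v, v ≠ 0 ∧ aeval f p v = 0 := by
  by_contra hc
  push Not at hc
  -- `p` is prime to the minimal polynomial
  have hinj : Function.Injective (aeval f p) := by
    rw [injective_iff_map_eq_zero]
    intro v hv
    by_contra h
    exact hc v h hv
  have hnd : ¬ p ∣ minpoly F f := by
    rintro ⟨r, hr⟩
    have hμ := minpoly.ne_zero (Algebra.IsIntegral.isIntegral (R := F) f)
    have hr0 : r ≠ 0 := fun h => hμ (by rw [hr, h, mul_zero])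
    have h0 : aeval f r = 0 := by
      apply LinearMap.ext
      intro v
      apply hinj
      rw [LinearMap.zero_apply, map_zero, ← Module.End.mul_apply, ← map_mul, ← hr, minpoly.aeval,
        LinearMap.zero_apply]
    have hle := natDegree_le_of_dvd (minpoly.dvd F f h0) hr0
    rw [hr, natDegree_mul hp.ne_zero hr0] at hle
    have := hp.natDegree_pos
    omega
  -- but they share a root
  let L := AlgebraicClosure F
  obtain ⟨a, ha⟩ := IsAlgClosed.exists_aeval_eq_zero L p
    (fun h => hp.natDegree_pos.ne' (natDegree_eq_of_degree_eq_some h))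
  obtain ⟨r, hr⟩ := hdvd
  let b := Module.Free.chooseBasis F V
  set A := LinearMap.toMatrix b b f with hA
  have hχ : ((A.map (algebraMap F L)).charpoly).IsRoot a := by
    rw [Matrix.charpoly_map, IsRoot, eval_map_algebraMap, hA, LinearMap.charpoly_toMatrix, hr,
      map_mul, ha, zero_mul]
  rw [← Matrix.charpoly_toLin', ← Module.End.hasEigenvalue_iff_isRoot_charpoly] at hχ
  obtain ⟨x, hx⟩ := hχ.exists_hasEigenvector
  have hμA : aeval (A.map (algebraMap F L)) ((minpoly F f).map (algebraMap F L)) = 0 := by
    rw [aeval_map_algebraMap]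
    have h1 : aeval A (minpoly F f) = 0 := by
      have := congrArg (LinearMap.toMatrixAlgEquiv b).toAlgHom (minpoly.aeval F f)
      rw [← aeval_algHom_apply, map_zero] at this
      exact this
    have h2 := aeval_algHom_apply ((Algebra.ofId F L).mapMatrix) A (minpoly F f)
    rw [h1, map_zero] at h2
    exact h2
  have h3 := Module.End.aeval_apply_of_hasEigenvector
    (p := (minpoly F f).map (algebraMap F L)) hx
  have h4 : aeval (Matrix.toLin' (A.map (algebraMap F L))) ((minpoly F f).map (algebraMap F L))
      = 0 := by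
    have := aeval_algHom_apply (Matrix.toLinAlgEquiv' (R := L)).toAlgHom (A.map (algebraMap F L))
      ((minpoly F f).map (algebraMap F L))
    rw [hμA, map_zero] at this
    exact this
  rw [h4, LinearMap.zero_apply, eq_comm, smul_eq_zero] at h3
  have h5 : aeval a (minpoly F f) = 0 := by
    have := h3.resolve_right hx.2
    rwa [eval_map_algebraMap] at this
  obtain ⟨s, t, hst⟩ := (hp.coprime_iff_not_dvd.2 hnd)
  have := congrArg (aeval a) hst
  simp [map_add, map_mul, ha, h5] at this

section split

variable {V : Type*} [AddCommGroup V] [Module F V]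

/-- `q ↦ q(f) v`. -/
noncomputable def orbitMap (f : Module.End F V) (v : V) : F[X] →ₗ[F] V :=
  (LinearMap.applyₗ (R := F) v).comp (aeval f).toLinearMap

@[simp] theorem orbitMap_apply (f : Module.End F V) (v : V) (q : F[X]) :
    orbitMap f v q = aeval f q v := rfl

theorem apply_orbitMap (f : Module.End F V) (v : V) (q : F[X]) :
    f (orbitMap f v q) = orbitMap f v (X * q) := by simp

theorem orbitMap_mul (f : Module.End F V) (v : V) (r q : F[X]) :
    aeval f r (orbitMap f v q) = orbitMap f v (r * q) := by simp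

theorem orbitMap_eq_zero_iff (f : Module.End F V) {v : V} (hv : v ≠ 0) {p : F[X]}
    (hp : Irreducible p) (hpv : aeval f p v = 0) (q : F[X]) : orbitMap f v q = 0 ↔ p ∣ q := by
  constructor
  · intro h
    by_contra hnd
    obtain ⟨a, b, hab⟩ := hp.coprime_iff_not_dvd.2 hnd
    apply hv
    have := congrArg (fun r => aeval f r v) hab
    rw [orbitMap_apply] at h
    simpa [hpv, h] using this.symm
  · rintro ⟨r, rfl⟩
    rw [orbitMap_apply, mul_comm, map_mul, Module.End.mul_apply, hpv, map_zero]

theorem range_invt (f : Module.End F V) (v : V) :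
    ∀ x ∈ LinearMap.range (orbitMap f v), f x ∈ LinearMap.range (orbitMap f v) := by
  rintro _ ⟨q, rfl⟩
  exact ⟨X * q, (apply_orbitMap f v q).symm⟩

variable {f : Module.End F V} {R U : Submodule F V}

/-- `f` is the product of its restrictions to complementary invariant subspaces. -/
theorem conj_prodMap (hRU : IsCompl R U) (hR : ∀ x ∈ R, f x ∈ R) (hU : ∀ x ∈ U, f x ∈ U) :
    (Submodule.prodEquivOfIsCompl R U hRU).conj ((f.restrict hR).prodMap (f.restrict hU)) = f := by
  apply LinearMap.ext
  intro x
  obtain ⟨⟨r, u⟩, rfl⟩ := (Submodule.prodEquivOfIsCompl R U hRU).surjective x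
  simp [LinearEquiv.conj_apply]

theorem charpoly_eq_mul [FiniteDimensional F V] (hRU : IsCompl R U) (hR : ∀ x ∈ R, f x ∈ R)
    (hU : ∀ x ∈ U, f x ∈ U) :
    f.charpoly = (f.restrict hR).charpoly * (f.restrict hU).charpoly := by
  rw [← LinearMap.charpoly_prodMap]
  conv_lhs => rw [← conj_prodMap hRU hR hU, LinearEquiv.charpoly_conj]

theorem exists_isCompl (hf : f.IsSemisimple) (hR : ∀ x ∈ R, f x ∈ R) :
    ∃ U, IsCompl R U ∧ ∀ x ∈ U, f x ∈ U := by
  obtain ⟨U, hU, hRU⟩ := Module.End.isSemisimple_iff.1 hf R
    ((Module.End.mem_invtSubmodule_iff_forall_mem_of_mem _).2 hR)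
  exact ⟨U, hRU, (Module.End.mem_invtSubmodule_iff_forall_mem_of_mem _).1 hU⟩

theorem isSemisimple_restrict (hf : f.IsSemisimple) (hU : ∀ x ∈ U, f x ∈ U) :
    Module.End.IsSemisimple (f.restrict hU) :=
  Module.End.IsSemisimple.restrict ((Module.End.mem_invtSubmodule_iff_forall_mem_of_mem _).2 hU) hf

end split

/-- Cyclic subspaces for the same irreducible polynomial are equivalent. -/
theorem exists_orbit_equiv {V W : Type*} [AddCommGroup V] [Module F V] [AddCommGroup W] [Module F W]
    (f : Module.End F V) (f' : Module.End F W) {v : V} (hv : v ≠ 0) {w : W} (hw : w ≠ 0) {p : F[X]}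
    (hp : Irreducible p) (hpv : aeval f p v = 0) (hpw : aeval f' p w = 0) :
    ∃ e : LinearMap.range (orbitMap f v) ≃ₗ[F] LinearMap.range (orbitMap f' w),
      ∀ x, e (f.restrict (range_invt f v) x) = f'.restrict (range_invt f' w) (e x) := by
  have hker : LinearMap.ker (orbitMap f v) = LinearMap.ker (orbitMap f' w) := by
    ext q
    rw [LinearMap.mem_ker, LinearMap.mem_ker, orbitMap_eq_zero_iff f hv hp hpv,
      orbitMap_eq_zero_iff f' hw hp hpw]
  let e := (orbitMap f v).quotKerEquivRange.symm.trans
    ((Submodule.quotEquivOfEq _ _ hker).trans (orbitMap f' w).quotKerEquivRange)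
  have he : ∀ q, (e ⟨orbitMap f v q, q, rfl⟩ : W) = orbitMap f' w q := by
    intro q
    have : (orbitMap f v).quotKerEquivRange.symm ⟨orbitMap f v q, q, rfl⟩ = Submodule.Quotient.mk q := by
      rw [LinearEquiv.symm_apply_eq]; exact Subtype.ext rfl
    simp only [e, LinearEquiv.trans_apply, this]
    rfl
  refine ⟨e, ?_⟩
  rintro ⟨_, q, rfl⟩
  apply Subtype.ext
  have : f.restrict (range_invt f v) ⟨orbitMap f v q, q, rfl⟩
      = ⟨orbitMap f v (X * q), X * q, rfl⟩ := Subtype.ext (apply_orbitMap f v q)
  rw [this, he, LinearMap.restrict_coe_apply, he, apply_orbitMap]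

/-- Semisimple endomorphisms with equal characteristic polynomials are conjugate. -/
theorem exists_equiv_of_charpoly_eq {V W : Type*} [AddCommGroup V] [Module F V]
    [FiniteDimensional F V] [AddCommGroup W] [Module F W] [FiniteDimensional F W]
    (f : Module.End F V) (f' : Module.End F W) (hf : f.IsSemisimple) (hf' : f'.IsSemisimple)
    (h : f.charpoly = f'.charpoly) : ∃ e : V ≃ₗ[F] W, ∀ x, e (f x) = f' (e x) := by
  suffices key : ∀ n, ∀ (V' : Submodule F V) (W' : Submodule F W) (hV : ∀ x ∈ V', f x ∈ V')
      (hW : ∀ x ∈ W', f' x ∈ W'), Module.finrank F V' = n →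
      (f.restrict hV).charpoly = (f'.restrict hW).charpoly →
      ∃ e : V' ≃ₗ[F] W', ∀ x, e (f.restrict hV x) = f'.restrict hW (e x) by
    let eV : (⊤ : Submodule F V) ≃ₗ[F] V := Submodule.topEquiv
    let eW : (⊤ : Submodule F W) ≃ₗ[F] W := Submodule.topEquiv
    have h1 : ∀ x ∈ (⊤ : Submodule F V), f x ∈ (⊤ : Submodule F V) := fun _ _ => trivial
    have h2 : ∀ x ∈ (⊤ : Submodule F W), f' x ∈ (⊤ : Submodule F W) := fun _ _ => trivial
    have c1 : eV.conj (f.restrict h1) = f := by ext; rfl
    have c2 : eW.conj (f'.restrict h2) = f' := by ext; rfl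
    obtain ⟨e, he⟩ := key _ ⊤ ⊤ h1 h2 rfl (by
      rw [← eV.charpoly_conj, c1, ← eW.charpoly_conj (f'.restrict h2), c2, h])
    exact ⟨eV.symm.trans (e.trans eW), fun x => congrArg Subtype.val (he ⟨x, trivial⟩)⟩
  intro n
  induction n using Nat.strong_induction_on with
  | _ n ih =>
  intro V' W' hV hW hn hc
  have hWn : Module.finrank F W' = n := by
    rw [← LinearMap.charpoly_natDegree (f'.restrict hW), ← hc, LinearMap.charpoly_natDegree, hn]
  rcases Nat.eq_zero_or_pos n with rfl | hpos
  · haveI : Subsingleton V' := Module.finrank_zero_iff.1 hn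
    haveI : Subsingleton W' := Module.finrank_zero_iff.1 hWn
    exact ⟨LinearEquiv.ofFinrankEq V' W' (hn.trans hWn.symm), fun x => Subsingleton.elim _ _⟩
  set g := f.restrict hV with hg
  set g' := f'.restrict hW with hg'
  have hgs : Module.End.IsSemisimple g := isSemisimple_restrict hf hV
  have hgs' : Module.End.IsSemisimple g' := isSemisimple_restrict hf' hW
  obtain ⟨p, hpm, hp, hdvd⟩ : ∃ p : F[X], p.Monic ∧ Irreducible p ∧ p ∣ g.charpoly :=
    exists_monic_irreducible_factor g.charpoly (fun hu => by
      have h0 := natDegree_eq_zero_of_isUnit hu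
      rw [LinearMap.charpoly_natDegree, hn] at h0; omega)
  obtain ⟨v, hv, hpv⟩ := exists_aeval_eq_zero_of_dvd_charpoly g hp hdvd
  obtain ⟨w, hw, hpw⟩ := exists_aeval_eq_zero_of_dvd_charpoly g' hp (hc ▸ hdvd)
  obtain ⟨U, hRU, hU⟩ := exists_isCompl hgs (range_invt g v)
  obtain ⟨U', hRU', hU'⟩ := exists_isCompl hgs' (range_invt g' w)
  obtain ⟨e₁, he₁⟩ := exists_orbit_equiv g g' hv hw hp hpv hpw
  have hcU : (g.restrict hU).charpoly = (g'.restrict hU').charpoly := by
    have h1 : (g.restrict (range_invt g v)).charpoly = (g'.restrict (range_invt g' w)).charpoly := by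
      rw [← e₁.charpoly_conj (g.restrict (range_invt g v))]
      congr 1
      apply LinearMap.ext
      intro y
      rw [LinearEquiv.conj_apply_apply, he₁, LinearEquiv.apply_symm_apply]
    apply mul_left_cancel₀ (LinearMap.charpoly_monic (g.restrict (range_invt g v))).ne_zero
    rw [← charpoly_eq_mul hRU (range_invt g v) hU, hc, charpoly_eq_mul hRU' (range_invt g' w) hU', h1]
  -- the complements, seen inside `V` and `W`
  let a := Submodule.equivMapOfInjective V'.subtype V'.subtype_injective U
  let a' := Submodule.equivMapOfInjective W'.subtype W'.subtype_injective U'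
  have hU₁ : ∀ x ∈ U.map V'.subtype, f x ∈ U.map V'.subtype := by
    rintro _ ⟨y, hy, rfl⟩; exact ⟨g y, hU y hy, rfl⟩
  have hU₂ : ∀ x ∈ U'.map W'.subtype, f' x ∈ U'.map W'.subtype := by
    rintro _ ⟨y, hy, rfl⟩; exact ⟨g' y, hU' y hy, rfl⟩
  have hca : a.conj (g.restrict hU) = f.restrict hU₁ := by
    apply LinearMap.ext
    intro y
    obtain ⟨z, rfl⟩ := a.surjective y
    rw [LinearEquiv.conj_apply_apply, LinearEquiv.symm_apply_apply]
    exact Subtype.ext rfl
  have hca' : a'.conj (g'.restrict hU') = f'.restrict hU₂ := by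
    apply LinearMap.ext
    intro y
    obtain ⟨z, rfl⟩ := a'.surjective y
    rw [LinearEquiv.conj_apply_apply, LinearEquiv.symm_apply_apply]
    exact Subtype.ext rfl
  have hlt : Module.finrank F U < n := by
    rw [← hn]
    have := Submodule.finrank_add_eq_of_isCompl hRU
    have hR0 : 0 < Module.finrank F (LinearMap.range (orbitMap g v)) :=
      Module.finrank_pos_iff_exists_ne_zero.2
        ⟨⟨v, 1, by simp⟩, fun h => hv (congrArg Subtype.val h)⟩
    omega
  obtain ⟨e₂, he₂⟩ := ih _ hlt _ _ hU₁ hU₂ a.finrank_eq.symm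
    (by rw [← hca, ← hca', LinearEquiv.charpoly_conj, LinearEquiv.charpoly_conj, hcU])
  let e₂' : U ≃ₗ[F] U' := a.trans (e₂.trans a'.symm)
  have he₂' : ∀ y, e₂' (g.restrict hU y) = g'.restrict hU' (e₂' y) := by
    intro y
    have := he₂ (a y)
    rw [← hca, ← hca', LinearEquiv.conj_apply_apply, LinearEquiv.conj_apply_apply,
      LinearEquiv.symm_apply_apply] at this
    simp only [e₂', LinearEquiv.trans_apply]
    rw [this, LinearEquiv.symm_apply_apply]
  let P := Submodule.prodEquivOfIsCompl _ U hRU
  let P' := Submodule.prodEquivOfIsCompl _ U' hRU'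
  refine ⟨(P.symm.trans (e₁.prodCongr e₂')).trans P', fun x => ?_⟩
  obtain ⟨⟨r, u⟩, rfl⟩ := P.surjective x
  have hx : g (P (r, u)) = P (g.restrict (range_invt g v) r, g.restrict hU u) := by
    simp [P]
  rw [hx]
  simp only [LinearEquiv.trans_apply, LinearEquiv.symm_apply_apply, LinearEquiv.prodCongr_apply,
    he₁, he₂']
  simp [P']

section centralizer

variable [Finite F] {V : Type*} [AddCommGroup V] [Module F V] [FiniteDimensional F V]

/-- The centraliser of a semisimple endomorphism attains every non-zero determinant. -/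
theorem exists_commute_det [Nontrivial V] (f : Module.End F V) (hf : f.IsSemisimple) (c : Fˣ) :
    ∃ u : Module.End F V, Commute u f ∧ LinearMap.det u = (c : F) := by
  obtain ⟨p, hpm, hp, hdvd⟩ : ∃ p : F[X], p.Monic ∧ Irreducible p ∧ p ∣ f.charpoly :=
    exists_monic_irreducible_factor f.charpoly (fun hu => by
      have h0 := natDegree_eq_zero_of_isUnit hu
      rw [LinearMap.charpoly_natDegree] at h0
      exact (Module.finrank_pos (R := F) (M := V)).ne' h0)
  obtain ⟨v, hv, hpv⟩ := exists_aeval_eq_zero_of_dvd_charpoly f hp hdvd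
  obtain ⟨U, hRU, hU⟩ := exists_isCompl hf (range_invt f v)
  haveI := Fact.mk hp
  haveI : Module.Finite F (AdjoinRoot p) := Module.Finite.of_basis (AdjoinRoot.powerBasis hp.ne_zero).basis
  haveI : Finite (AdjoinRoot p) := Module.finite_of_finite F
  obtain ⟨z, hz⟩ := FiniteField.norm_surjective F (AdjoinRoot p) (c : F)
  obtain ⟨q, rfl⟩ := AdjoinRoot.mk_surjective z
  have hker : LinearMap.ker (orbitMap f v) = (Ideal.span {p}).restrictScalars F := by
    ext r
    rw [LinearMap.mem_ker, orbitMap_eq_zero_iff f hv hp hpv, Submodule.restrictScalars_mem,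
      Ideal.mem_span_singleton]
  let ε : AdjoinRoot p ≃ₗ[F] LinearMap.range (orbitMap f v) :=
    ((Submodule.Quotient.restrictScalarsEquiv F (Ideal.span {p})).symm.trans
      (Submodule.quotEquivOfEq _ _ hker.symm)).trans (orbitMap f v).quotKerEquivRange
  have hε : ∀ r, (ε (AdjoinRoot.mk p r) : V) = orbitMap f v r := fun r => rfl
  have hqinv : ∀ x ∈ LinearMap.range (orbitMap f v), aeval f q x ∈ LinearMap.range (orbitMap f v) := by
    rintro _ ⟨r, rfl⟩
    exact ⟨q * r, (orbitMap_mul f v q r).symm⟩
  let uR := (aeval f q).restrict hqinv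
  have hdet : LinearMap.det uR = (c : F) := by
    rw [← hz, Algebra.norm_apply, ← LinearMap.det_conj _ ε]
    congr 1
    apply LinearMap.ext
    intro x
    obtain ⟨y, rfl⟩ := ε.surjective x
    simp only [LinearMap.coe_comp, LinearEquiv.coe_coe, Function.comp_apply,
      LinearEquiv.symm_apply_apply]
    obtain ⟨r, rfl⟩ := AdjoinRoot.mk_surjective y
    apply Subtype.ext
    show aeval f q (ε (AdjoinRoot.mk p r) : V) = (ε (AdjoinRoot.mk p q * AdjoinRoot.mk p r) : V)
    rw [← map_mul, hε, hε, orbitMap_mul]
  let P := Submodule.prodEquivOfIsCompl _ U hRU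
  refine ⟨P.conj (uR.prodMap LinearMap.id), ?_, ?_⟩
  · show _ * _ = _ * _
    have hc : uR * f.restrict (range_invt f v) = f.restrict (range_invt f v) * uR := by
      apply LinearMap.ext
      intro x
      apply Subtype.ext
      show aeval f q (f x) = f (aeval f q x)
      have : Commute (aeval f q) f := by
        have := (Commute.all q (X : F[X])).map (aeval f)
        rwa [aeval_X] at this
      exact LinearMap.congr_fun this x
    conv_lhs => arg 2; rw [← conj_prodMap hRU (range_invt f v) hU]
    conv_rhs => arg 1; rw [← conj_prodMap hRU (range_invt f v) hU]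
    rw [Module.End.mul_eq_comp, Module.End.mul_eq_comp, ← LinearEquiv.conj_comp,
      ← LinearEquiv.conj_comp, LinearMap.prodMap_comp, LinearMap.prodMap_comp,
      LinearMap.id_comp, LinearMap.comp_id]
    exact congrArg (fun t => P.conj (t.prodMap (f.restrict hU))) hc
  · rw [LinearEquiv.conj_apply, LinearMap.comp_assoc, LinearMap.det_conj, LinearMap.det_prodMap,
      hdet, LinearMap.det_id, mul_one]

end centralizer

end Cfsg.Agent.Semisimple
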