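/- Classes of elements of order prime to the characteristic in GL_n and SL_n.
Main results: `isSemisimple_of_coprime`, `gl_isConj_of_charpoly_eq`, `sl_isConj_of_charpoly_eq`,
`exists_coprime_charpoly`, `card_classes_gl`, `card_classes_sl`. -/
import Cfsg.Agent.Lib.Semisimple.Basic

set_option autoImplicit false

namespace Cfsg.Agent.Semisimple

open Polynomial Matrix

variable {F : Type*} [Field F] {n : ℕ}

/-- An element of order prime to the characteristic is semisimple. -/
theorem isSemisimple_of_coprime (p : ℕ) [Fact p.Prime] [CharP F p] (g : GL (Fin n) F)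
    (hg : (orderOf g).Coprime p) :
    Module.End.IsSemisimple (toLin' (g : Matrix (Fin n) (Fin n) F)) := by
  apply Module.End.isSemisimple_of_squarefree_aeval_eq_zero (p := (X ^ orderOf g - 1 : F[X]))
  · refine ((X_pow_sub_one_separable_iff).2 ?_).squarefree
    intro h
    rw [CharP.cast_eq_zero_iff F p] at h
    exact (Fact.out : p.Prime).coprime_iff_not_dvd.1 hg.symm h
  · rw [map_sub, map_pow, map_one, aeval_X, ← Matrix.toLin'_pow, ← Units.val_pow_eq_pow_val,
      pow_orderOf_eq_one, Units.val_one, Matrix.toLin'_one]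
    exact sub_self _

theorem gl_isConj_of_charpoly_eq (p : ℕ) [Fact p.Prime] [CharP F p] (g h : GL (Fin n) F)
    (hg : (orderOf g).Coprime p) (hh : (orderOf h).Coprime p)
    (hc : (g : Matrix (Fin n) (Fin n) F).charpoly = (h : Matrix (Fin n) (Fin n) F).charpoly) :
    IsConj g h := by
  obtain ⟨e, he⟩ := exists_equiv_of_charpoly_eq (toLin' (g : Matrix (Fin n) (Fin n) F))
    (toLin' (h : Matrix (Fin n) (Fin n) F)) (isSemisimple_of_coprime p g hg)
    (isSemisimple_of_coprime p h hh) (by rw [charpoly_toLin', charpoly_toLin', hc])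
  have hdet : IsUnit (LinearMap.toMatrix' (e : (Fin n → F) →ₗ[F] Fin n → F)).det := by
    rw [LinearMap.det_toMatrix']
    exact LinearEquiv.isUnit_det' e
  let c : GL (Fin n) F := GeneralLinearGroup.mkOfDetNeZero _ hdet.ne_zero
  refine isConj_iff.2 ⟨c, ?_⟩
  suffices c * g = h * c by rw [this, mul_inv_cancel_right]
  apply Units.ext
  apply Matrix.toLin'.injective
  rw [Units.val_mul, Units.val_mul, Matrix.toLin'_mul, Matrix.toLin'_mul]
  apply LinearMap.ext
  intro x
  simpa [c] using he x

theorem orderOf_toGL (g : Matrix.SpecialLinearGroup (Fin n) F) :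
    orderOf (Matrix.SpecialLinearGroup.toGL g) = orderOf g :=
  orderOf_injective Matrix.SpecialLinearGroup.toGL Matrix.SpecialLinearGroup.toGL_injective g

theorem coe_toGL (g : Matrix.SpecialLinearGroup (Fin n) F) :
    ((Matrix.SpecialLinearGroup.toGL g : GL (Fin n) F) : Matrix (Fin n) (Fin n) F) = g.1 := rfl

theorem charpoly_conj_gl {g h : GL (Fin n) F} (hgh : IsConj g h) :
    (g : Matrix (Fin n) (Fin n) F).charpoly = (h : Matrix (Fin n) (Fin n) F).charpoly := by
  obtain ⟨c, rfl⟩ := isConj_iff.1 hgh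
  rw [Units.val_mul, Units.val_mul, Matrix.coe_units_inv, Matrix.charpoly_units_conj]

variable [Finite F]

theorem sl_isConj_of_charpoly_eq (p : ℕ) [Fact p.Prime] [CharP F p]
    (g h : Matrix.SpecialLinearGroup (Fin n) F) (hg : (orderOf g).Coprime p)
    (hh : (orderOf h).Coprime p)
    (hc : (g : Matrix (Fin n) (Fin n) F).charpoly = (h : Matrix (Fin n) (Fin n) F).charpoly) :
    IsConj g h := by
  rcases Nat.eq_zero_or_pos n with rfl | hn
  · rw [Subsingleton.elim g h]
  haveI : Nonempty (Fin n) := ⟨⟨0, hn⟩⟩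
  have hg' : (orderOf (Matrix.SpecialLinearGroup.toGL g)).Coprime p := by rwa [orderOf_toGL]
  obtain ⟨c, hcg⟩ := isConj_iff.1 (gl_isConj_of_charpoly_eq p _ _ hg' (by rwa [orderOf_toGL])
    (show ((Matrix.SpecialLinearGroup.toGL g : GL (Fin n) F) : Matrix (Fin n) (Fin n) F).charpoly =
      ((Matrix.SpecialLinearGroup.toGL h : GL (Fin n) F) : Matrix (Fin n) (Fin n) F).charpoly from hc))
  obtain ⟨u, hu, hud⟩ := exists_commute_det _
    (isSemisimple_of_coprime p (Matrix.SpecialLinearGroup.toGL g) hg')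
    (GeneralLinearGroup.det c)⁻¹
  have hud' : (LinearMap.toMatrix' u).det = (((GeneralLinearGroup.det c)⁻¹ : Fˣ) : F) := by
    rw [LinearMap.det_toMatrix', hud]
  let w : GL (Fin n) F := GeneralLinearGroup.mkOfDetNeZero (LinearMap.toMatrix' u)
    (by rw [hud']; exact Units.ne_zero _)
  have hwg : w * Matrix.SpecialLinearGroup.toGL g = Matrix.SpecialLinearGroup.toGL g * w := by
    apply Units.ext
    apply Matrix.toLin'.injective
    rw [Units.val_mul, Units.val_mul, Matrix.toLin'_mul, Matrix.toLin'_mul]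
    simpa [w, Module.End.mul_eq_comp] using hu.eq
  have hdet : ((c * w : GL (Fin n) F) : Matrix (Fin n) (Fin n) F).det = 1 := by
    rw [Units.val_mul, Matrix.det_mul, show (w : Matrix (Fin n) (Fin n) F) = LinearMap.toMatrix' u from rfl,
      hud', ← GeneralLinearGroup.val_det_apply, ← Units.val_mul, mul_inv_cancel, Units.val_one]
  let d : Matrix.SpecialLinearGroup (Fin n) F := ⟨_, hdet⟩
  refine isConj_iff.2 ⟨d, Matrix.SpecialLinearGroup.toGL_injective ?_⟩
  have hd : Matrix.SpecialLinearGroup.toGL d = c * w := Units.ext rfl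
  rw [map_mul, map_mul, map_inv, hd, _root_.mul_inv_rev, ← mul_assoc, mul_assoc c w, hwg, ← mul_assoc c,
    mul_inv_cancel_right, hcg]

theorem charpoly_pow_card_pow [Fintype F] (A : Matrix (Fin n) (Fin n) F) (k : ℕ) :
    (A ^ Fintype.card F ^ k).charpoly = A.charpoly := by
  induction k with
  | zero => simp
  | succ k ih => rw [pow_succ, pow_mul, FiniteField.Matrix.charpoly_pow_card, ih]

/-- A power of `g` has order prime to `p` and the same characteristic polynomial. -/
theorem exists_coprime_charpoly [Fintype F] (p : ℕ) [Fact p.Prime] [CharP F p]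
    {G : Type*} [Group G] [Finite G] (φ : G →* GL (Fin n) F) (g : G) :
    ∃ k : ℕ, (orderOf (g ^ k)).Coprime p ∧
      (φ (g ^ k) : Matrix (Fin n) (Fin n) F).charpoly = (φ g : Matrix (Fin n) (Fin n) F).charpoly := by
  obtain ⟨a, m, hm, hN⟩ := Nat.exists_eq_pow_mul_and_not_dvd (orderOf_pos g).ne' p
    (Fact.out : p.Prime).ne_one
  refine ⟨Fintype.card F ^ a, ?_, ?_⟩
  · have hdvd : orderOf g ∣ Fintype.card F ^ a * m := by
      obtain ⟨s, hp, hs⟩ := FiniteField.card F p
      rw [hN, hs, ← pow_mul]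
      exact Nat.mul_dvd_mul_right (pow_dvd_pow p (Nat.le_mul_of_pos_left a s.pos)) m
    have h1 : orderOf (g ^ Fintype.card F ^ a) ∣ m :=
      orderOf_dvd_of_pow_eq_one (by rw [← pow_mul]; exact orderOf_dvd_iff_pow_eq_one.1 hdvd)
    exact Nat.Coprime.coprime_dvd_left h1 ((Fact.out : p.Prime).coprime_iff_not_dvd.2 hm).symm
  · rw [map_pow, Units.val_pow_eq_pow_val, charpoly_pow_card_pow]

/-- Every monic polynomial of degree `n` is the characteristic polynomial of a matrix. -/
theorem exists_matrix_charpoly (P : F[X]) (hP : P.Monic) (hn : P.natDegree = n) :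
    ∃ A : Matrix (Fin n) (Fin n) F, A.charpoly = P := by
  subst hn
  let pb := AdjoinRoot.powerBasis hP.ne_zero
  have h := charpoly_leftMulMatrix pb
  have h2 : minpoly F pb.gen = P := by
    show minpoly F (AdjoinRoot.root P) = P
    rw [AdjoinRoot.minpoly_root hP.ne_zero, hP.leadingCoeff, inv_one, map_one, mul_one]
  have hd : pb.dim = P.natDegree := rfl
  exact ⟨(Algebra.leftMulMatrix pb.basis pb.gen).submatrix (finCongr hd).symm (finCongr hd).symm,
    by rw [← Matrix.reindex_apply, Matrix.charpoly_reindex, h, h2]⟩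

/-- Monic polynomials of degree `n` by coefficients. -/
noncomputable def monicEquiv (n : ℕ) : {P : F[X] // P.Monic ∧ P.natDegree = n} ≃ (Fin n → F) :=
  (monicEquivDegreeLT n).trans (degreeLTEquiv F n).toEquiv

theorem monicEquiv_apply (n : ℕ) (P : {P : F[X] // P.Monic ∧ P.natDegree = n}) (i : Fin n) :
    monicEquiv n P i = P.1.coeff i := by
  show P.1.eraseLead.coeff i = _
  rw [eraseLead_coeff_of_ne]
  rw [P.2.2]; exact i.2.ne

theorem det_eq_coeff (A : Matrix (Fin n) (Fin n) F) : A.det = (-1) ^ n * A.charpoly.coeff 0 := by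
  rw [Matrix.det_eq_sign_charpoly_coeff, Fintype.card_fin]

/-- Classes of coprime order in `G ≤ GL_n` counted by constant coefficient. -/
theorem card_classes [Fintype F] (p : ℕ) [Fact p.Prime] [CharP F p] {G : Type*} [Group G] [Finite G]
    (φ : G →* GL (Fin (n + 1)) F) (S : Set F) (hS : ∀ g, (φ g : Matrix (Fin (n + 1)) (Fin (n + 1)) F).charpoly.coeff 0 ∈ S)
    (hconj : ∀ g h : G, (orderOf g).Coprime p → (orderOf h).Coprime p →
      (φ g : Matrix (Fin (n + 1)) (Fin (n + 1)) F).charpoly = (φ h : Matrix (Fin (n + 1)) (Fin (n + 1)) F).charpoly → IsConj g h)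
    (hsurj : ∀ A : Matrix (Fin (n + 1)) (Fin (n + 1)) F, A.charpoly.coeff 0 ∈ S →
      ∃ g, (φ g : Matrix (Fin (n + 1)) (Fin (n + 1)) F) = A) :
    Nat.card {c : ConjClasses G // ∃ g : G, ConjClasses.mk g = c ∧ (orderOf g).Coprime p} =
      Nat.card S * Fintype.card F ^ n := by
  have hP : ∀ g : G, (φ g : Matrix (Fin (n + 1)) (Fin (n + 1)) F).charpoly.Monic ∧
      (φ g : Matrix (Fin (n + 1)) (Fin (n + 1)) F).charpoly.natDegree = n + 1 :=
    fun g => ⟨Matrix.charpoly_monic _, by rw [Matrix.charpoly_natDegree_eq_dim, Fintype.card_fin]⟩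
  let T := {v : Fin (n + 1) → F // v 0 ∈ S}
  let Ψ : {c : ConjClasses G // ∃ g : G, ConjClasses.mk g = c ∧ (orderOf g).Coprime p} → T :=
    fun c => ⟨monicEquiv (n + 1) ⟨_, hP c.2.choose⟩, by
      rw [monicEquiv_apply]; exact hS _⟩
  have hΨ : Function.Bijective Ψ := by
    constructor
    · intro c c' h
      have h' := (monicEquiv (n + 1)).injective (congrArg Subtype.val h)
      apply Subtype.ext
      rw [← c.2.choose_spec.1, ← c'.2.choose_spec.1, ConjClasses.mk_eq_mk_iff_isConj]
      exact hconj _ _ c.2.choose_spec.2 c'.2.choose_spec.2 (congrArg Subtype.val h')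
    · rintro ⟨v, hv⟩
      obtain ⟨⟨P, hPm, hPd⟩, hPv⟩ := (monicEquiv (n + 1)).surjective v
      obtain ⟨A, hA⟩ := exists_matrix_charpoly P hPm hPd
      obtain ⟨g, hg⟩ := hsurj A (by
        rw [hA]
        have := monicEquiv_apply (n + 1) ⟨P, hPm, hPd⟩ 0
        rw [hPv] at this
        simp only [Fin.val_zero] at this
        rw [← this]; exact hv)
      obtain ⟨k, hk, hkc⟩ := exists_coprime_charpoly p φ g
      let c : {c : ConjClasses G // ∃ g : G, ConjClasses.mk g = c ∧ (orderOf g).Coprime p} :=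
        ⟨ConjClasses.mk (g ^ k), g ^ k, rfl, hk⟩
      refine ⟨c, Subtype.ext ?_⟩
      show monicEquiv (n + 1) ⟨_, hP c.2.choose⟩ = v
      rw [← hPv]
      congr 1
      apply Subtype.ext
      show (φ c.2.choose : Matrix (Fin (n + 1)) (Fin (n + 1)) F).charpoly = P
      rw [← hA, ← hg, ← hkc]
      exact charpoly_conj_gl (φ.map_isConj (ConjClasses.mk_eq_mk_iff_isConj.1 c.2.choose_spec.1))
  rw [Nat.card_eq_of_bijective Ψ hΨ]
  let e : T ≃ S × (Fin n → F) :=
    { toFun := fun v => (⟨v.1 0, v.2⟩, fun i => v.1 i.succ)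
      invFun := fun x => ⟨Fin.cons (x.1 : F) x.2, by simpa using x.1.2⟩
      left_inv := fun v => by
        apply Subtype.ext
        funext i
        induction i using Fin.cases <;> simp
      right_inv := fun x => by simp }
  rw [Nat.card_congr e, Nat.card_prod, Nat.card_fun, Nat.card_eq_fintype_card (α := F), Nat.card_fin]

end Cfsg.Agent.Semisimple
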